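import Cfsg.Agent.Lib.PSLn.Sylow
import Cfsg.Agent.Lib.GLFlags.DoubleCoset

/-!
Two Sylow 2-subgroups of `L_n(2).2` meet nontrivially: the unitriangular groups meeting `U`
trivially form one `U`-orbit, so an outer element of a Sylow 2-subgroup can be adjusted to fix
such an opposite.
-/

set_option autoImplicit false

namespace CfsgLib.SylowIntersect

open Matrix

variable {n : ℕ}

local notation "S2" => Matrix.SpecialLinearGroup (Fin n) (ZMod 2)

theorem zmod_two_cases (x : ZMod 2) : x = 0 ∨ x = 1 := by revert x; decide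

/-- The element of `SL_n(2)` of an invertible matrix. -/
def ofGL (g : GL (Fin n) (ZMod 2)) : S2 := ⟨g.val, (zmod_two_cases _).resolve_left
  ((Matrix.isUnit_iff_isUnit_det _).mp g.isUnit).ne_zero⟩

theorem ofGL_mul (g h : GL (Fin n) (ZMod 2)) : ofGL (g * h) = ofGL g * ofGL h :=
  Subtype.ext rfl

theorem ofGL_toGL (g : S2) : ofGL (Matrix.SpecialLinearGroup.toGL g) = g := Subtype.ext rfl

theorem mem_upper_of_triangular {g : GL (Fin n) (ZMod 2)}
    (hg : g ∈ Cfsg.upperTriangularGL n (ZMod 2)) : ofGL g ∈ CfsgLib.PSLn.upper (ZMod 2) n := by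
  intro i j hij
  rcases eq_or_lt_of_le hij with rfl | hlt
  · have hd : ∏ k, g.val k k ≠ 0 := by
      rw [← Matrix.det_of_upperTriangular hg]
      exact ((Matrix.isUnit_iff_isUnit_det _).mp g.isUnit).ne_zero
    rw [Matrix.one_apply_eq]
    exact (zmod_two_cases _).resolve_left (Finset.prod_ne_zero_iff.mp hd j (Finset.mem_univ j))
  · rw [Matrix.one_apply_ne hlt.ne']
    exact hg hlt

/-- The opposite permutation matrix. -/
noncomputable def opp (n : ℕ) : Matrix.SpecialLinearGroup (Fin n) (ZMod 2) :=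
  ofGL (CfsgLib.GLFlags.permGL (Fin.revPerm : Equiv.Perm (Fin n)))

theorem perm_mul_transvection (σ : Equiv.Perm (Fin n)) (i j : Fin n) :
    (CfsgLib.GLFlags.permGL σ : GL (Fin n) (ZMod 2)).val * Matrix.transvection i j 1 =
      Matrix.transvection (σ i) (σ j) 1 *
        (CfsgLib.GLFlags.permGL σ : GL (Fin n) (ZMod 2)).val := by
  rw [Matrix.transvection, Matrix.transvection, Matrix.mul_add, Matrix.add_mul, Matrix.mul_one,
    Matrix.one_mul]
  congr 1
  ext a b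
  simp only [Matrix.mul_apply, Matrix.single_apply, CfsgLib.GLFlags.permGL_apply,
    mul_ite, mul_one, mul_zero, ite_mul, one_mul, zero_mul]
  rw [Finset.sum_eq_single i, Finset.sum_eq_single (σ j)]
  · by_cases h : j = b
    · subst h
      by_cases h' : σ⁻¹ a = i
      · subst h'; simp
      · have : ¬ σ i = a := fun e => h' (by rw [← e]; simp)
        simp only [Equiv.Perm.inv_def] at h'
        simp [h', this]
    · simp [h]
  · intro k _ hk
    split_ifs <;> simp_all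
  · simp
  · intro k _ hk
    simp [Ne.symm hk]
  · simp

theorem exists_opposite {g : S2}
    (hg : CfsgLib.PSLn.upper (ZMod 2) n ⊓
      (CfsgLib.PSLn.upper (ZMod 2) n).map (MulAut.conj g).toMonoidHom = ⊥) :
    ∃ u ∈ CfsgLib.PSLn.upper (ZMod 2) n, ∃ v ∈ CfsgLib.PSLn.upper (ZMod 2) n,
      g = u * opp n * v := by
  obtain ⟨b, hb, σ, u, hu, hgbu⟩ :=
    CfsgLib.GLFlags.exists_bruhat (Matrix.SpecialLinearGroup.toGL g)
  have hg' : g = ofGL b * ofGL (CfsgLib.GLFlags.permGL σ) * ofGL u := by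
    rw [← ofGL_mul, ← ofGL_mul, ← hgbu, ofGL_toGL]
  have hb' := mem_upper_of_triangular hb
  have hu' := mem_upper_of_triangular hu
  refine ⟨ofGL b, hb', ofGL u, hu', ?_⟩
  rw [hg', opp]
  have hanti : StrictAnti σ := by
    intro i j hij
    by_contra hle
    have hlt : σ i < σ j := lt_of_le_of_ne (not_lt.mp hle) (σ.injective.ne hij.ne)
    let t : S2 := ⟨Matrix.transvection i j 1, Matrix.det_transvection_of_ne i j hij.ne 1⟩
    let t' : S2 := ⟨Matrix.transvection (σ i) (σ j) 1,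
      Matrix.det_transvection_of_ne _ _ hlt.ne 1⟩
    have hmem : ∀ a c : Fin n, (h : a < c) → (⟨Matrix.transvection a c 1,
        Matrix.det_transvection_of_ne a c h.ne 1⟩ : S2) ∈ CfsgLib.PSLn.upper (ZMod 2) n := by
      intro a c h k l hkl
      show (1 + Matrix.single a c (1 : ZMod 2)) k l = _
      rw [Matrix.add_apply, Matrix.single_apply, if_neg, add_zero]
      rintro ⟨rfl, rfl⟩
      exact absurd hkl (not_le.mpr h)
    have hPt : ofGL (CfsgLib.GLFlags.permGL σ) * t = t' * ofGL (CfsgLib.GLFlags.permGL σ) :=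
      Subtype.ext (perm_mul_transvection σ i j)
    have h1 : ofGL b * t' * (ofGL b)⁻¹ ∈ CfsgLib.PSLn.upper (ZMod 2) n ⊓
        (CfsgLib.PSLn.upper (ZMod 2) n).map (MulAut.conj g).toMonoidHom := by
      refine ⟨Subgroup.mul_mem _ (Subgroup.mul_mem _ hb' (hmem _ _ hlt)) (Subgroup.inv_mem _ hb'), (ofGL u)⁻¹ * t * ofGL u,
        Subgroup.mul_mem _ (Subgroup.mul_mem _ (Subgroup.inv_mem _ hu') (hmem _ _ hij)) hu', ?_⟩
      show g * ((ofGL u)⁻¹ * t * ofGL u) * g⁻¹ = _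
      rw [hg']
      calc ofGL b * ofGL (CfsgLib.GLFlags.permGL σ) * ofGL u * ((ofGL u)⁻¹ * t * ofGL u) *
            (ofGL b * ofGL (CfsgLib.GLFlags.permGL σ) * ofGL u)⁻¹
          = ofGL b * (ofGL (CfsgLib.GLFlags.permGL σ) * t) * (ofGL (CfsgLib.GLFlags.permGL σ))⁻¹ *
              (ofGL b)⁻¹ := by simp [mul_assoc]
        _ = _ := by rw [hPt]; simp [mul_assoc]
    rw [hg, Subgroup.mem_bot] at h1
    have h2 : t' = 1 := by
      have := congrArg (fun x => (ofGL b)⁻¹ * x * ofGL b) h1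
      simpa [mul_assoc] using this
    have h3 := congrArg (fun A : S2 => A.val (σ i) (σ j)) h2
    simp [t', Matrix.transvection, hlt.ne] at h3
  have : σ = Fin.revPerm := by
    have hmono : StrictMono fun i => Fin.rev (σ i) := fun i j hij => Fin.rev_lt_rev.mpr (hanti hij)
    ext i
    have h := StrictMono.id_le hmono i
    have h' := StrictMono.le_id hmono i
    have : Fin.rev (σ i) = i := le_antisymm h' h
    rw [Fin.revPerm_apply]
    conv_rhs => rw [← this, Fin.rev_rev]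
  rw [this]

theorem upper_isPGroup : IsPGroup 2 (CfsgLib.PSLn.upper (ZMod 2) n) :=
  IsPGroup.of_card (n := ∑ j : Fin n, (j : ℕ)) (by
    rw [CfsgLib.PSLn.card_upper, ZMod.card, Finset.prod_pow_eq_pow_sum])

theorem upper_index_odd : ¬ 2 ∣ (CfsgLib.PSLn.upper (ZMod 2) n).index := by
  intro h
  have h2 : Nat.card (GL (Fin n) (ZMod 2)) =
      Nat.card (CfsgLib.PSLn.upper (ZMod 2) n) * ∏ i : Fin n, (2 ^ (n - (i : ℕ)) - 1) := by
    rw [CfsgLib.PSLn.card_upper, Matrix.card_GL_field, ZMod.card, ← Finset.prod_mul_distrib]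
    refine Finset.prod_congr rfl fun i _ => ?_
    rw [Nat.mul_sub, mul_one, ← pow_add, Nat.add_sub_cancel' i.2.le]
  have h1 : Nat.card (CfsgLib.PSLn.upper (ZMod 2) n) * (CfsgLib.PSLn.upper (ZMod 2) n).index ∣
      Nat.card (GL (Fin n) (ZMod 2)) := by
    rw [Subgroup.card_mul_index]
    exact Subgroup.card_dvd_of_injective _
      (Matrix.SpecialLinearGroup.toGL_injective (n := Fin n) (R := ZMod 2))
  rw [h2, Nat.mul_dvd_mul_iff_left Nat.card_pos] at h1
  obtain ⟨i, -, hi⟩ := Nat.prime_two.prime.exists_mem_finset_dvd (h.trans h1)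
  have h3 : 2 ∣ 2 ^ (n - (i : ℕ)) := dvd_pow_self 2 (Nat.sub_ne_zero_of_lt i.2)
  have h4 : 1 ≤ 2 ^ (n - (i : ℕ)) := Nat.one_le_two_pow
  omega

theorem sylow_inf_conj_ne_bot {G : Type*} [Group G] [Finite G] (N : Subgroup G) [N.Normal]
    (φ : S2 →* G) (hφ : Function.Injective φ) (hr : φ.range = N) (hidx : N.index = 2)
    (H : Sylow 2 G) (x : G) :
    (H : Subgroup G) ⊓ (H : Subgroup G).map (MulAut.conj x).toMonoidHom ≠ ⊥ := by
  classical
  haveI : Fact (Nat.Prime 2) := ⟨Nat.prime_two⟩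
  set U := CfsgLib.PSLn.upper (ZMod 2) n with hUdef
  obtain ⟨H₁, hUH⟩ := ((upper_isPGroup (n := n)).map φ).exists_le_sylow
  suffices key : ∀ x : G,
      (H₁ : Subgroup G) ⊓ (H₁ : Subgroup G).map (MulAut.conj x).toMonoidHom ≠ ⊥ by
    obtain ⟨y, hy⟩ := MulAction.exists_smul_eq G H₁ H
    intro hbot
    refine key (y⁻¹ * x * y) ?_
    rw [eq_bot_iff]
    rintro a ⟨ha, b, hb, hba⟩
    have h1 : y * a * y⁻¹ ∈ (H : Subgroup G) ⊓ (H : Subgroup G).map (MulAut.conj x).toMonoidHom := by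
      have hHmem : ∀ c ∈ (H₁ : Subgroup G), y * c * y⁻¹ ∈ (H : Subgroup G) := fun c hc => by
        rw [← hy]; exact ⟨c, hc, by simp⟩
      refine ⟨hHmem a ha, y * b * y⁻¹, hHmem b hb, ?_⟩
      rw [← hba]
      simp [mul_assoc]
    rw [hbot, Subgroup.mem_bot, conj_eq_one_iff] at h1
    exact Subgroup.mem_bot.mpr h1
  have hU : ∀ h ∈ (H₁ : Subgroup G), h ∈ N → ∃ u ∈ U, φ u = h := by
    have hsyl : (H₁ : Subgroup G).comap φ = U := by
      refine le_antisymm ?_ (Subgroup.map_le_iff_le_comap.mp hUH)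
      let T : Sylow 2 S2 := (upper_isPGroup (n := n)).toSylow upper_index_odd
      exact (T.is_maximal' (H₁.2.comap_of_injective φ hφ)
        (Subgroup.map_le_iff_le_comap.mp hUH)).le
    intro h hh hN
    obtain ⟨s, rfl⟩ := hr.ge hN
    exact ⟨s, hsyl.le hh, rfl⟩
  obtain ⟨t, ht, htN⟩ : ∃ t ∈ (H₁ : Subgroup G), t ∉ N := by
    by_contra hall
    push Not at hall
    have hle : (H₁ : Subgroup G) ≤ N := fun a ha => hall a ha
    have h2 : (H₁ : Subgroup G).index = (H₁ : Subgroup G).relIndex N * N.index :=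
      (Subgroup.relIndex_mul_index hle).symm
    exact H₁.not_dvd_index (h2 ▸ hidx.symm ▸ dvd_mul_left 2 _)
  have hopp : ∀ g : S2, (H₁ : Subgroup G) ⊓ (H₁ : Subgroup G).map (MulAut.conj (φ g)).toMonoidHom = ⊥ →
      U ⊓ U.map (MulAut.conj g).toMonoidHom = ⊥ := by
    intro g hg
    rw [eq_bot_iff]
    rintro a ⟨ha, b, hb, rfl⟩
    have h1 : φ (g * b * g⁻¹) ∈ (H₁ : Subgroup G) ⊓
        (H₁ : Subgroup G).map (MulAut.conj (φ g)).toMonoidHom :=
      ⟨hUH ⟨_, ha, rfl⟩, φ b, hUH ⟨b, hb, rfl⟩, by simp⟩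
    rw [hg, Subgroup.mem_bot, ← map_one φ] at h1
    exact Subgroup.mem_bot.mpr (hφ h1)
  intro x hx
  -- move `x` into `N`
  obtain ⟨g, hg⟩ : ∃ g : S2,
      (H₁ : Subgroup G) ⊓ (H₁ : Subgroup G).map (MulAut.conj (φ g)).toMonoidHom = ⊥ := by
    by_cases hxN : x ∈ N
    · obtain ⟨g, rfl⟩ := hr.ge hxN
      exact ⟨g, hx⟩
    · obtain ⟨g, hg⟩ := hr.ge ((Subgroup.mul_mem_iff_of_index_two hidx).mpr
        (show x ∈ N ↔ t ∈ N from iff_of_false hxN htN) : x * t ∈ N)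
      refine ⟨g, ?_⟩
      rw [hg, eq_bot_iff]
      rintro a ⟨ha, b, hb, rfl⟩
      refine hx.le ⟨ha, t * b * t⁻¹, mul_mem (mul_mem ht hb) (inv_mem ht), ?_⟩
      simp [mul_assoc]
  obtain ⟨u, hu, v, hv, rfl⟩ := exists_opposite (hopp g hg)
  set w := φ (opp n) with hw
  -- now the opposite `w`
  have hwbot : (H₁ : Subgroup G) ⊓ (H₁ : Subgroup G).map (MulAut.conj w).toMonoidHom = ⊥ := by
    rw [eq_bot_iff]
    rintro a ⟨ha, b, hb, rfl⟩
    have hu' := hUH ⟨u, hu, rfl⟩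
    have hv' := hUH ⟨v, hv, rfl⟩
    have h1 : φ u * (w * b * w⁻¹) * (φ u)⁻¹ ∈ (H₁ : Subgroup G) ⊓
        (H₁ : Subgroup G).map (MulAut.conj (φ (u * opp n * v))).toMonoidHom :=
      ⟨Subgroup.mul_mem _ (Subgroup.mul_mem _ hu' ha) (Subgroup.inv_mem _ hu'), (φ v)⁻¹ * b * φ v,
        Subgroup.mul_mem _ (Subgroup.mul_mem _ (Subgroup.inv_mem _ hv') hb) hv', by simp [hw, mul_assoc]⟩
    rw [hg, Subgroup.mem_bot, conj_eq_one_iff] at h1
    exact Subgroup.mem_bot.mpr h1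
  have htnorm : ∀ a ∈ U, ∃ a' ∈ U, φ a' = t * φ a * t⁻¹ := fun a ha =>
    hU _ (mul_mem (mul_mem ht (hUH ⟨a, ha, rfl⟩)) (inv_mem ht))
      ((inferInstance : N.Normal).conj_mem _ (hr ▸ ⟨a, rfl⟩) t)
  obtain ⟨g', hg'⟩ := hr.ge ((inferInstance : N.Normal).conj_mem w (hr ▸ ⟨opp n, rfl⟩) t)
  have hg'bot : U ⊓ U.map (MulAut.conj g').toMonoidHom = ⊥ := by
    refine hopp g' ?_
    rw [eq_bot_iff, hg']
    rintro a ⟨ha, b, hb, rfl⟩
    have h1 : w * (t⁻¹ * b * t) * w⁻¹ ∈ (H₁ : Subgroup G) ⊓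
        (H₁ : Subgroup G).map (MulAut.conj w).toMonoidHom := by
      refine ⟨?_, t⁻¹ * b * t, Subgroup.mul_mem _ (Subgroup.mul_mem _ (Subgroup.inv_mem _ ht) hb) ht, rfl⟩
      have := Subgroup.mul_mem _ (Subgroup.mul_mem _ (Subgroup.inv_mem _ ht) ha) ht
      simp [mul_assoc] at this ⊢
      exact this
    rw [hwbot, Subgroup.mem_bot] at h1
    have := congrArg (fun z => t * z * t⁻¹) h1
    simpa [mul_assoc] using this
  obtain ⟨c, hc, d, hd, hcd⟩ := exists_opposite hg'bot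
  -- `s = c⁻¹ t` lies in both
  have hs : (φ c)⁻¹ * t ∈ (H₁ : Subgroup G) ⊓ (H₁ : Subgroup G).map (MulAut.conj w).toMonoidHom := by
    refine ⟨Subgroup.mul_mem _ (Subgroup.inv_mem _ (hUH ⟨c, hc, rfl⟩)) ht, φ d * t,
      Subgroup.mul_mem _ (hUH ⟨d, hd, rfl⟩) ht, ?_⟩
    have h1 : φ c * w * φ d = t * w * t⁻¹ := by
      rw [← hg', hcd, map_mul, map_mul]
    show w * (φ d * t) * w⁻¹ = _
    rw [show w * (φ d * t) * w⁻¹ = (φ c)⁻¹ * (φ c * w * φ d) * t * w⁻¹ by simp [mul_assoc], h1]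
    simp [mul_assoc]
  rw [hwbot, Subgroup.mem_bot, inv_mul_eq_one] at hs
  exact htN (hs ▸ hr ▸ ⟨c, rfl⟩)

end CfsgLib.SylowIntersect
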