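/-
Two Sylow 2-subgroups of the orthogonal group of plus type over the field of two elements meet
nontrivially: each of them is the stabiliser of a singular flag, and some involution fixes the
members of any two such flags pointwise.
-/
import Mathlib

set_option autoImplicit false

namespace CfsgLead.PlusTwo

open Module

variable {F V G : Type*} [Field F] [Finite F] [AddCommGroup V] [Module F V] [Finite V] [Group G]
  (q : QuadraticForm F V) (ρ : G →* Module.End F V)


noncomputable def sgn (a : F) : ℤ :=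
  haveI := Classical.propDecidable
  if a = 0 then 1 else -1

def Singular (L : Submodule F V) : Prop := ∀ x ∈ L, q x = 0

theorem q_add (x y : V) : q (x + y) = q x + q y + (QuadraticMap.polarBilin q) x y := QuadraticMap.map_add q x y

theorem b_symm (x y : V) : (QuadraticMap.polarBilin q) x y = (QuadraticMap.polarBilin q) y x := QuadraticMap.polar_comm q x y

theorem two_zero (hF : Nat.card F = 2) : ∀ a : F, a = 0 ∨ a = 1 := by
  intro a
  obtain ⟨w, -, huniq⟩ := (Nat.card_eq_two_iff' (0 : F)).mp hF
  by_cases h : a = 0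
  · exact Or.inl h
  · exact Or.inr ((huniq a h).trans (huniq 1 one_ne_zero).symm)

theorem add_self_zero (hF : Nat.card F = 2) (a : F) : a + a = 0 := by
  rcases two_zero hF (1 + 1 : F) with h | h
  · rw [← two_mul, ← one_add_one_eq_two, h, zero_mul]
  · exact absurd (add_eq_left.mp h) one_ne_zero

theorem vec_add_self_zero (hF : Nat.card F = 2) (x : V) : x + x = 0 := by
  rw [← one_smul F x, ← add_smul, add_self_zero hF, zero_smul]

theorem sgn_add (hF : Nat.card F = 2) (a b : F) : sgn (a + b) = sgn a * sgn b := by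
  classical
  rcases two_zero hF a with rfl | rfl <;> rcases two_zero hF b with rfl | rfl <;>
    simp [sgn, add_self_zero hF]

theorem Singular.b_zero {L : Submodule F V} (hL : Singular q L) {x y : V} (hx : x ∈ L) (hy : y ∈ L) :
    (QuadraticMap.polarBilin q) x y = 0 := by
  have := q_add q x y
  rw [hL x hx, hL y hy, hL _ (L.add_mem hx hy), zero_add, zero_add] at this
  exact this.symm

/-- The orthogonal space. -/
def perp (L : Submodule F V) : Submodule F V := LinearMap.BilinForm.orthogonal (QuadraticMap.polarBilin q) L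

theorem mem_perp {L : Submodule F V} {x : V} : x ∈ perp q L ↔ ∀ w ∈ L, (QuadraticMap.polarBilin q) w x = 0 := Iff.rfl

theorem perp_anti {L L' : Submodule F V} (h : L ≤ L') : perp q L' ≤ perp q L := fun _ hx w hw => hx w (h hw)

theorem le_perp {L : Submodule F V} (hL : Singular q L) : L ≤ perp q L := fun _ hx _ hw => hL.b_zero q hw hx

section
variable (hF : Nat.card F = 2) (hnd : LinearMap.BilinForm.Nondegenerate ((QuadraticMap.polarBilin q)))

include hF hnd in
theorem sum_sgn_perp (L : Submodule F V) (hL : Singular q L) [Fintype V] [DecidablePred (· ∈ perp q L)] :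
    ∑ x : V, sgn (q x) = ∑ x ∈ Finset.univ.filter (· ∈ perp q L), sgn (q x) := by
  classical
  have : Fintype ↥L := Fintype.ofFinite _
  have h1 : ∀ x, (∑ w : ↥L, sgn ((QuadraticMap.polarBilin q) x (w : V))) = if x ∈ perp q L then (Fintype.card ↥L : ℤ) else 0 := by
    intro x
    split_ifs with hx
    · rw [Finset.sum_congr rfl fun (w : ↥L) _ => show sgn ((QuadraticMap.polarBilin q) x (w : V)) = 1 by
        rw [b_symm, (mem_perp q).mp hx (w : V) w.2]; simp [sgn]]
      simp
    · obtain ⟨w₀, hw₀, hne⟩ : ∃ w ∈ L, (QuadraticMap.polarBilin q) w x ≠ 0 := by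
        by_contra hall
        push Not at hall
        exact hx ((mem_perp q).mpr hall)
      have e : ∑ w : ↥L, sgn ((QuadraticMap.polarBilin q) x (w : V)) = ∑ w : ↥L, -sgn ((QuadraticMap.polarBilin q) x (w : V)) := by
        refine Fintype.sum_equiv (Equiv.addRight (⟨w₀, hw₀⟩ : ↥L)) _ _ fun w => ?_
        show _ = -sgn ((QuadraticMap.polarBilin q) x ((w : V) + w₀))
        rw [map_add, sgn_add hF, show sgn ((QuadraticMap.polarBilin q) x w₀) = -1 by rw [b_symm]; unfold sgn; rw [if_neg hne]]
        ring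
      rw [Finset.sum_neg_distrib] at e
      omega
  have h2 : ∀ w : ↥L, ∑ x : V, sgn (q x) * sgn ((QuadraticMap.polarBilin q) x (w : V)) = ∑ x : V, sgn (q x) := fun w => by
    refine Fintype.sum_equiv (Equiv.addRight (w : V)) _ _ fun x => ?_
    show _ = sgn (q (x + w))
    rw [q_add, hL w w.2, add_zero, sgn_add hF]
  have h3 : (Fintype.card ↥L : ℤ) * ∑ x : V, sgn (q x) =
      (Fintype.card ↥L : ℤ) * ∑ x ∈ Finset.univ.filter (· ∈ perp q L), sgn (q x) := by
    have e : ∑ w : ↥L, ∑ x : V, sgn (q x) * sgn ((QuadraticMap.polarBilin q) x (w : V)) = (Fintype.card ↥L : ℤ) * ∑ x : V, sgn (q x) := by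
      rw [Finset.sum_congr rfl fun w _ => h2 w]
      simp
    rw [← e, Finset.sum_comm, Finset.sum_filter, Finset.mul_sum]
    refine Finset.sum_congr rfl fun x _ => ?_
    rw [← Finset.mul_sum, h1]
    split_ifs <;> ring
  exact mul_left_cancel₀ (by exact_mod_cast Fintype.card_ne_zero) h3

variable {m : ℕ} (hdim : finrank F V = 2 * m) (W : Submodule F V) (hW : finrank F ↥W = m) (hWs : Singular q W)

include hF in
theorem card_submodule (L : Submodule F V) : Nat.card ↥L = 2 ^ finrank F ↥L := by
  rw [Module.natCard_eq_pow_finrank (K := F), hF]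

include hF hnd hdim in
theorem finrank_perp (L : Submodule F V) : finrank F ↥(perp q L) = 2 * m - finrank F ↥L := by
  rw [perp, LinearMap.BilinForm.finrank_orthogonal hnd, hdim]

include hF hnd hdim hW hWs in
theorem card_singular (L : Submodule F V) (hL : Singular q L) :
    2 * Nat.card {x : V // x ∈ perp q L ∧ q x = 0} = 2 ^ (2 * m - finrank F ↥L) + 2 ^ m := by
  classical
  have : Fintype V := Fintype.ofFinite V
  have hWW : perp q W = W := by
    refine (Submodule.eq_of_le_of_finrank_eq (le_perp q hWs) ?_).symm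
    rw [finrank_perp q hF hnd hdim, hW]
    omega
  have e0 := sum_sgn_perp q hF hnd W hWs
  rw [sum_sgn_perp q hF hnd L hL, Finset.sum_congr rfl (fun x hx => show sgn (q x) = 1 by
    rw [hWs x (hWW ▸ (Finset.mem_filter.mp hx).2 :)]; simp [sgn]) (s₁ := Finset.univ.filter (· ∈ perp q W))] at e0
  have e1 : ∀ x : V, sgn (q x) = 2 * (if q x = 0 then 1 else 0) - 1 := fun x => by
    unfold sgn
    split_ifs <;> norm_num
  rw [Finset.sum_congr rfl fun x _ => e1 x, Finset.sum_sub_distrib, ← Finset.mul_sum, Finset.sum_boole,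
    Finset.filter_filter] at e0
  simp only [Finset.sum_const, nsmul_eq_mul, mul_one] at e0
  have c1 : ∀ M : Submodule F V, (Finset.univ.filter (· ∈ M)).card = 2 ^ finrank F ↥M := fun M => by
    rw [← card_submodule hF M, Nat.card_eq_fintype_card, Fintype.card_subtype]
  have c2 : (Finset.univ.filter fun x : V => x ∈ perp q L ∧ q x = 0).card =
      Nat.card {x : V // x ∈ perp q L ∧ q x = 0} := by
    rw [Nat.card_eq_fintype_card, Fintype.card_subtype]
  rw [c1, c1, c2, hWW, hW, finrank_perp q hF hnd hdim] at e0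
  zify
  push_cast at e0 ⊢
  linear_combination e0

end

variable {q} {ρ}

theorem rho_inv (g : G) (v : V) : ρ g⁻¹ (ρ g v) = v := by
  rw [← Module.End.mul_apply, ← map_mul, inv_mul_cancel, map_one]; rfl

theorem rho_inv' (g : G) (v : V) : ρ g (ρ g⁻¹ v) = v := by
  rw [← Module.End.mul_apply, ← map_mul, mul_inv_cancel, map_one]; rfl

theorem map_eq_of_le {L : Submodule F V} {g : G} (h : L.map (ρ g) ≤ L) : L.map (ρ g) = L :=
  Submodule.eq_of_le_of_finrank_eq h
    (Submodule.equivMapOfInjective (ρ g) (Function.LeftInverse.injective (rho_inv g)) L).finrank_eq.symm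

/-- An invariant step of index two. -/
theorem step {A C : Submodule F V} (hF : Nat.card F = 2) (hAC : A ≤ C) (hd : finrank F ↥C = finrank F ↥A + 1)
    {g : G} (hA : A.map (ρ g) ≤ A) (hC : C.map (ρ g) ≤ C) {v : V} (hv : v ∈ C) : ρ g v - v ∈ A := by
  by_cases hvA : v ∈ A
  · exact A.sub_mem (hA ⟨v, hvA, rfl⟩) hvA
  have hgv : ρ g v ∉ A := fun h => by
    rw [← map_eq_of_le hA] at h
    obtain ⟨a, ha, e⟩ := h
    exact hvA (Function.LeftInverse.injective (rho_inv g) e ▸ ha)
  have hsup : A ⊔ Submodule.span F {v} = C := by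
    refine Submodule.eq_of_le_of_finrank_le (sup_le hAC (Submodule.span_le.mpr (by simpa using hv))) ?_
    rw [hd]
    exact Submodule.finrank_lt_finrank_of_lt (lt_of_le_of_ne le_sup_left fun e =>
      hvA (e ▸ Submodule.mem_sup_right (Submodule.mem_span_singleton_self v)))
  have h1 : ρ g v ∈ A ⊔ Submodule.span F {v} := hsup ▸ hC ⟨v, hv, rfl⟩
  obtain ⟨a, ha, w, hw, e⟩ := Submodule.mem_sup.mp h1
  obtain ⟨c, rfl⟩ := Submodule.mem_span_singleton.mp hw
  rcases two_zero hF c with rfl | rfl
  · rw [zero_smul, add_zero] at e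
    exact absurd (e ▸ ha) hgv
  · rw [one_smul] at e
    rw [← e, add_sub_cancel_right]
    exact ha

variable (q)

theorem map_perp_le (hpres : ∀ g v, q (ρ g v) = q v) {L : Submodule F V} {g : G} (hL : L.map (ρ g) ≤ L) :
    (perp q L).map (ρ g) ≤ perp q L := by
  rintro _ ⟨x, hx, rfl⟩ w hw
  obtain ⟨u, hu, rfl⟩ := (map_eq_of_le hL).ge hw
  have e : ∀ a b, (QuadraticMap.polarBilin q) (ρ g a) (ρ g b) = (QuadraticMap.polarBilin q) a b := fun a b => by
    have h1 := q_add q (ρ g a) (ρ g b)
    rw [← map_add, hpres, hpres, hpres, q_add q a b] at h1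
    exact (add_left_cancel h1).symm
  exact (e u x).trans (hx u hu)

/-- A singular flag of length `k`. -/
structure Flag (k : ℕ) where
  sub : ℕ → Submodule F V
  mono : ∀ i, i < k → sub i ≤ sub (i + 1)
  rank : ∀ i, i ≤ k → finrank F ↥(sub i) = i
  sing : ∀ i, i ≤ k → Singular q (sub i)

variable {q}

/-- The stabiliser of a flag. -/
def Flag.stab {k : ℕ} (L : Flag q k) (ρ : G →* Module.End F V) : Subgroup G where
  carrier := {g | ∀ i ≤ k, (L.sub i).map (ρ g) = L.sub i}
  one_mem' i _ := by rw [map_one]; exact Submodule.map_id _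
  mul_mem' {a b} ha hb i hi := by
    rw [map_mul, Module.End.mul_eq_comp, Submodule.map_comp, hb i hi, ha i hi]
  inv_mem' {a} ha i hi := by
    conv_lhs => rw [← ha i hi]
    rw [← Submodule.map_comp, ← Module.End.mul_eq_comp, ← map_mul, inv_mul_cancel, map_one]
    exact Submodule.map_id _

theorem pow_two_pow_eq (hF : Nat.card F = 2) (f : Module.End F V) :
    ∀ s : ℕ, (1 + f) ^ (2 ^ s) = 1 + f ^ (2 ^ s)
  | 0 => by simp
  | s + 1 => by
    rw [pow_succ 2 s, pow_mul, pow_two_pow_eq hF f s, pow_mul, pow_two, pow_two]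
    have e : f ^ (2 ^ s) + f ^ (2 ^ s) = 0 := LinearMap.ext fun x => vec_add_self_zero hF _
    rw [mul_add, add_mul, add_mul, one_mul, one_mul, mul_one, add_assoc, ← add_assoc (f ^ (2 ^ s)), e, zero_add]

variable (hF : Nat.card F = 2) (hnd : LinearMap.BilinForm.Nondegenerate (QuadraticMap.polarBilin q))
  {m : ℕ} (hdim : finrank F V = 2 * m) (W : Submodule F V) (hW : finrank F ↥W = m) (hWs : Singular q W)
  (hpres : ∀ g v, q (ρ g v) = q v)

include hF hnd hdim hW hWs in
/-- The number of singular extensions of a singular subspace. -/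
theorem card_extensions (L : Submodule F V) (hL : Singular q L) {i : ℕ} (hi : finrank F ↥L = i) (him : i < m) :
    Nat.card {U : Submodule F V // L ≤ U ∧ finrank F ↥U = i + 1 ∧ Singular q U} + 1 =
      2 ^ (2 * (m - i) - 1) + 2 ^ (m - i - 1) := by
  classical
  set T := {U : Submodule F V // L ≤ U ∧ finrank F ↥U = i + 1 ∧ Singular q U}
  set Z := {x : V // x ∈ perp q L ∧ q x = 0}
  have hsup : ∀ (U : T) (x : V), x ∈ (U : Submodule F V) → x ∉ L → L ⊔ Submodule.span F {x} = U := by
    rintro ⟨U, hLU, hUd, hUs⟩ x hx hxL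
    refine Submodule.eq_of_le_of_finrank_le (sup_le hLU (Submodule.span_le.mpr (by simpa using hx))) ?_
    rw [hUd, ← hi]
    exact Submodule.finrank_lt_finrank_of_lt (lt_of_le_of_ne le_sup_left fun e =>
      hxL (e ▸ Submodule.mem_sup_right (Submodule.mem_span_singleton_self x)))
  let f : (Σ U : T, {x : V // x ∈ (U : Submodule F V) ∧ x ∉ L}) → {z : Z // (z : V) ∉ L} := fun p =>
    ⟨⟨p.2.1, fun w hw => p.1.2.2.2.b_zero q (p.1.2.1 hw) p.2.2.1, p.1.2.2.2 _ p.2.2.1⟩, p.2.2.2⟩
  have hf : Function.Bijective f := by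
    constructor
    · rintro ⟨U, x, hx, hxL⟩ ⟨U', y, hy, hyL⟩ e
      have exy : x = y := congrArg (fun z => ((z.1 : Z) : V)) e
      subst exy
      obtain rfl : U = U' := Subtype.ext ((hsup U x hx hxL).symm.trans (hsup U' x hy hyL))
      rfl
    · rintro ⟨⟨x, hx, hqx⟩, hxL⟩
      have hd : finrank F ↥(L ⊔ Submodule.span F {x}) = i + 1 := by
        refine le_antisymm ?_ ?_
        · refine (Submodule.finrank_add_le_finrank_add_finrank _ _).trans ?_
          rw [hi]
          exact Nat.add_le_add_left ((finrank_span_le_card _).trans (by simp)) i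
        · rw [← hi]
          exact Submodule.finrank_lt_finrank_of_lt (lt_of_le_of_ne le_sup_left fun e =>
            hxL ((SetLike.ext_iff.mp e x).mpr (Submodule.mem_sup_right (Submodule.mem_span_singleton_self x))))
      have hs : Singular q (L ⊔ Submodule.span F {x}) := by
        intro y hy
        obtain ⟨a, ha, w, hw, rfl⟩ := Submodule.mem_sup.mp hy
        obtain ⟨c, rfl⟩ := Submodule.mem_span_singleton.mp hw
        rw [q_add, hL a ha, QuadraticMap.map_smul, hqx, map_smul, (mem_perp q).mp hx a ha]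
        simp
      exact ⟨⟨⟨_, le_sup_left, hd, hs⟩, x, Submodule.mem_sup_right (Submodule.mem_span_singleton_self x), hxL⟩, rfl⟩
  have hfib : ∀ U : T, Nat.card {x : V // x ∈ (U : Submodule F V) ∧ x ∉ L} = 2 ^ i := by
    rintro ⟨U, hLU, hUd, hUs⟩
    have h := Set.ncard_sdiff (show (L : Set V) ⊆ U from hLU) (Set.toFinite _)
    rw [← Nat.card_coe_set_eq, ← Nat.card_coe_set_eq, ← Nat.card_coe_set_eq] at h
    refine h.trans ?_
    show Nat.card ↥U - Nat.card ↥L = _
    rw [card_submodule hF, card_submodule hF, hUd, hi, pow_succ]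
    omega
  have h1 := Nat.card_congr (Equiv.ofBijective f hf)
  have : Fintype T := Fintype.ofFinite T
  rw [Nat.card_sigma, Finset.sum_congr rfl fun U _ => hfib U, Finset.sum_const, Finset.card_univ,
    ← Nat.card_eq_fintype_card, smul_eq_mul] at h1
  have h2 : Nat.card {z : Z // (z : V) ∉ L} + 2 ^ i = Nat.card Z := by
    have e := Nat.card_congr (Equiv.sumCompl fun z : Z => (z : V) ∈ L)
    rw [Nat.card_sum, show Nat.card {z : Z // (z : V) ∈ L} = 2 ^ i by
      rw [← hi, ← card_submodule hF L]
      exact Nat.card_congr ⟨fun z => ⟨_, z.2⟩, fun x => ⟨⟨x, le_perp q hL x.2, hL _ x.2⟩, x.2⟩,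
        fun _ => rfl, fun _ => rfl⟩] at e
    omega
  have h3 := card_singular q hF hnd hdim W hW hWs L hL
  rw [hi] at h3
  obtain ⟨j, rfl⟩ : ∃ j, m = i + 1 + j := ⟨m - i - 1, by omega⟩
  have e1 : 2 ^ (2 * (i + 1 + j) - i) = 2 * (2 ^ i * 2 ^ (2 * (i + 1 + j - i) - 1)) := by
    rw [← pow_add, ← pow_succ']
    congr 1
    omega
  have e2 : 2 ^ (i + 1 + j) = 2 * (2 ^ i * 2 ^ (i + 1 + j - i - 1)) := by
    rw [← pow_add, ← pow_succ']
    congr 1
    omega
  rw [e1, e2] at h3
  refine Nat.eq_of_mul_eq_mul_left (pow_pos two_pos i) ?_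
  rw [mul_add, mul_add, mul_one, mul_comm (2 ^ i) (Nat.card T), h1, h2]
  change 2 * Nat.card Z = _ at h3
  omega

include hF hnd hdim hW hWs hpres in
theorem stab_isPGroup {k : ℕ} (hk : k + 1 = m) (hinj : Function.Injective ρ) (L : Flag q k) :
    IsPGroup 2 (L.stab ρ) := by
  classical
  rintro ⟨g, hg⟩
  have hcard := card_extensions hF hnd hdim W hW hWs (L.sub k) (L.sing k le_rfl) (L.rank k le_rfl) (by omega)
  rw [show m - k = 1 by omega] at hcard
  norm_num at hcard
  set T := {U : Submodule F V // L.sub k ≤ U ∧ finrank F ↥U = k + 1 ∧ Singular q U}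
  obtain ⟨U₁, U₂, hne, huniv⟩ := Nat.card_eq_two_iff.mp (show Nat.card T = 2 by omega)
  have hmapT : ∀ U : T, L.sub k ≤ (U : Submodule F V).map (ρ g) ∧
      finrank F ↥((U : Submodule F V).map (ρ g)) = k + 1 ∧ Singular q ((U : Submodule F V).map (ρ g)) := by
    intro U
    refine ⟨(hg k le_rfl).ge.trans (Submodule.map_mono U.2.1), ?_, ?_⟩
    · rw [← (Submodule.equivMapOfInjective (ρ g) (Function.LeftInverse.injective (rho_inv g)) _).finrank_eq,
        U.2.2.1]
    · rintro _ ⟨x, hx, rfl⟩
      rw [hpres]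
      exact U.2.2.2 x hx
  let σ : T → T := fun U => ⟨_, hmapT U⟩
  have hσ : Function.Injective σ := fun U U' e =>
    Subtype.ext (Submodule.map_injective_of_injective (Function.LeftInverse.injective (rho_inv g))
      (congrArg Subtype.val e))
  have hσσ : ∀ U : T, σ (σ U) = U := by
    intro U
    have hall : ∀ W : T, W = U₁ ∨ W = U₂ := fun W => by
      simpa using huniv.ge (Set.mem_univ W)
    rcases hall U with e0 | e0 <;> rcases hall (σ U₁) with e1 | e1 <;> rcases hall (σ U₂) with e2 | e2 <;>
      first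
        | exact absurd (hσ (e1.trans e2.symm)) hne
        | simp only [e0, e1, e2]
  have hT2 : ∀ U : T, (U : Submodule F V).map (ρ (g * g)) ≤ U := fun U => by
    rw [map_mul, Module.End.mul_eq_comp, Submodule.map_comp]
    exact (congrArg Subtype.val (hσσ U)).le
  have hg2 : ∀ i ≤ k, (L.sub i).map (ρ (g * g)) ≤ L.sub i := fun i hi => ((L.stab ρ).mul_mem hg hg i hi).le
  set n : Module.End F V := ρ (g * g) - 1 with hn
  have hnap : ∀ v, n v = ρ (g * g) v - v := fun v => rfl
  -- the middle
  have hmid : ∀ v ∈ perp q (L.sub k), n v ∈ L.sub k := by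
    have hsup : (U₁ : Submodule F V) ⊔ U₂ = perp q (L.sub k) := by
      refine Submodule.eq_of_le_of_finrank_le (sup_le ?_ ?_) ?_
      · exact (le_perp q U₁.2.2.2).trans (perp_anti q U₁.2.1)
      · exact (le_perp q U₂.2.2.2).trans (perp_anti q U₂.2.1)
      · rw [finrank_perp q hF hnd hdim, L.rank k le_rfl]
        have hlt : (U₁ : Submodule F V) < (U₁ : Submodule F V) ⊔ U₂ := lt_of_le_of_ne le_sup_left fun e => by
          have hle : (U₂ : Submodule F V) ≤ U₁ := e ▸ le_sup_right
          exact hne (Subtype.ext (Submodule.eq_of_le_of_finrank_eq hle (U₂.2.2.1.trans U₁.2.2.1.symm)).symm)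
        have := Submodule.finrank_lt_finrank_of_lt hlt
        rw [U₁.2.2.1] at this
        omega
    intro v hv
    rw [← hsup] at hv
    obtain ⟨a, ha, b, hb, rfl⟩ := Submodule.mem_sup.mp hv
    rw [map_add]
    exact Submodule.add_mem _
      (step hF U₁.2.1 (by rw [U₁.2.2.1, L.rank k le_rfl]) (hg2 k le_rfl) (hT2 U₁) ha)
      (step hF U₂.2.1 (by rw [U₂.2.2.1, L.rank k le_rfl]) (hg2 k le_rfl) (hT2 U₂) hb)
  have h0 : L.sub 0 = ⊥ := Submodule.finrank_eq_zero.mp (L.rank 0 (Nat.zero_le _))
  -- descent through the flag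
  have hdown : ∀ i, i ≤ k → ∀ v ∈ L.sub i, (n ^ i) v = 0 := by
    intro i
    induction i with
    | zero =>
      intro _ v hv
      rw [h0, Submodule.mem_bot] at hv
      rw [hv, map_zero]
    | succ i ih =>
      intro hi v hv
      rw [pow_succ, Module.End.mul_apply]
      exact ih (by omega) _ (step hF (L.mono i (by omega))
        (by rw [L.rank _ hi, L.rank i (by omega)]) (hg2 i (by omega)) (hg2 _ hi) hv)
  have hup : ∀ j, j ≤ k → ∀ v, (n ^ j) v ∈ perp q (L.sub j) := by
    intro j
    induction j with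
    | zero =>
      intro _ v w hw
      rw [h0, Submodule.mem_bot] at hw
      rw [hw, map_zero, LinearMap.zero_apply]
    | succ j ih =>
      intro hj v
      rw [pow_succ', Module.End.mul_apply]
      refine step hF (perp_anti q (L.mono j (by omega))) ?_ (map_perp_le q hpres (hg2 _ hj))
        (map_perp_le q hpres (hg2 j (by omega))) (ih (by omega) v)
      rw [finrank_perp q hF hnd hdim, finrank_perp q hF hnd hdim, L.rank _ hj, L.rank j (by omega)]
      omega
  have hnil : n ^ (k + (1 + k)) = 0 := LinearMap.ext fun v => by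
    rw [pow_add, Module.End.mul_apply, pow_add, Module.End.mul_apply, pow_one, LinearMap.zero_apply]
    exact hdown k le_rfl _ (hmid _ (hup k le_rfl v))
  refine ⟨k + (1 + k) + 1, Subtype.ext (hinj ?_)⟩
  have e2 : (g * g : G) ^ (2 ^ (k + (1 + k))) = g ^ (2 ^ (k + (1 + k) + 1)) := by
    rw [← pow_two, ← pow_mul, ← pow_succ']
  rw [SubmonoidClass.coe_pow, Subgroup.coe_one, ← e2, map_pow, map_one,
    show ρ (g * g) = 1 + n by rw [hn]; abel, pow_two_pow_eq hF,
    pow_eq_zero_of_le Nat.lt_two_pow_self.le hnil, add_zero]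

include hF hnd hdim hW hWs hpres in
theorem exists_flag [Finite G] {P : Subgroup G} (hP : IsPGroup 2 P) :
    ∀ k, k + 1 ≤ m → ∃ L : Flag q k, P ≤ L.stab ρ := by
  classical
  intro k
  induction k with
  | zero =>
    intro _
    refine ⟨⟨fun _ => ⊥, fun _ _ => le_rfl, fun i hi => by rw [finrank_bot]; omega,
      fun i _ x hx => by rw [(Submodule.mem_bot F).mp hx]; exact QuadraticMap.map_zero q⟩, fun g _ i _ => ?_⟩
    exact Submodule.map_bot _
  | succ k ih =>
    intro hk
    obtain ⟨L, hL⟩ := ih (by omega)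
    set T := {U : Submodule F V // L.sub k ≤ U ∧ finrank F ↥U = k + 1 ∧ Singular q U}
    letI : MulAction ↥P T :=
      { smul := fun g U => ⟨(U : Submodule F V).map (ρ (g : G)),
          (hL g.2 k le_rfl).ge.trans (Submodule.map_mono U.2.1),
          by rw [← (Submodule.equivMapOfInjective (ρ (g : G))
            (Function.LeftInverse.injective (rho_inv (g : G))) _).finrank_eq, U.2.2.1],
          by rintro _ ⟨x, hx, rfl⟩; rw [hpres]; exact U.2.2.2 x hx⟩
        one_smul := fun U => Subtype.ext (by
          show (U : Submodule F V).map (ρ ((1 : ↥P) : G)) = _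
          rw [Subgroup.coe_one, map_one]; exact Submodule.map_id _)
        mul_smul := fun g h U => Subtype.ext (by
          show (U : Submodule F V).map (ρ ((g * h : ↥P) : G)) = ((U : Submodule F V).map (ρ (h : G))).map (ρ (g : G))
          rw [Subgroup.coe_mul, map_mul, Module.End.mul_eq_comp, Submodule.map_comp]) }
    have hodd : ¬ 2 ∣ Nat.card T := by
      have hc := card_extensions hF hnd hdim W hW hWs (L.sub k) (L.sing k le_rfl) (L.rank k le_rfl) (by omega)
      have h1 : 2 ∣ 2 ^ (2 * (m - k) - 1) + 2 ^ (m - k - 1) :=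
        dvd_add (dvd_pow_self 2 (by omega)) (dvd_pow_self 2 (by omega))
      rw [← hc] at h1
      change 2 ∣ Nat.card T + 1 at h1
      omega
    have : Fact (Nat.Prime 2) := ⟨Nat.prime_two⟩
    obtain ⟨U, hU⟩ := hP.nonempty_fixed_point_of_prime_not_dvd_card T hodd
    let sub' : ℕ → Submodule F V := fun i => if i ≤ k then L.sub i else (U : Submodule F V)
    refine ⟨⟨sub', fun i hi => ?_, fun i hi => ?_, fun i hi => ?_⟩, fun g hgP i hi => ?_⟩
    · by_cases h : i + 1 ≤ k
      · simp only [sub', if_pos (by omega : i ≤ k), if_pos h]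
        exact L.mono i (by omega)
      · simp only [sub', if_pos (by omega : i ≤ k), if_neg h]
        rw [show i = k by omega]
        exact U.2.1
    · show finrank F ↥(sub' i) = i
      by_cases h : i ≤ k
      · rw [show sub' i = L.sub i from if_pos h]; exact L.rank i h
      · rw [show sub' i = (U : Submodule F V) from if_neg h, U.2.2.1]; omega
    · show Singular q (sub' i)
      by_cases h : i ≤ k
      · rw [show sub' i = L.sub i from if_pos h]; exact L.sing i h
      · rw [show sub' i = (U : Submodule F V) from if_neg h]; exact U.2.2.2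
    · show (if i ≤ k then L.sub i else (U : Submodule F V)).map (ρ g) = _
      by_cases h : i ≤ k
      · simp only [sub', if_pos h]; exact hL hgP i h
      · simp only [sub', if_neg h]
        exact congrArg Subtype.val (hU ⟨g, hgP⟩)

include hF hnd hdim hW hWs hpres in
theorem sylow_inf_conj_ne_bot [Finite G] (hm : 1 ≤ m) (hinj : Function.Injective ρ)
    (hfull : ∀ f : V ≃ₗ[F] V, (∀ v, q (f v) = q v) → ∃ g, ρ g = f.toLinearMap) (P : Sylow 2 G) (x : G) :
    (P : Subgroup G) ⊓ (P : Subgroup G).map (MulAut.conj x).toMonoidHom ≠ ⊥ := by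
  classical
  obtain ⟨k, rfl⟩ : ∃ k, m = k + 1 := ⟨m - 1, by omega⟩
  obtain ⟨L, hL⟩ := exists_flag hF hnd hdim W hW hWs hpres P.2 k le_rfl
  have hPL : L.stab ρ = (P : Subgroup G) :=
    P.is_maximal' (stab_isPGroup hF hnd hdim W hW hWs hpres (by omega) hinj L) hL
  set Lk := L.sub k with hLk
  set Mk := (L.sub k).map (ρ x) with hMk
  have hMd : finrank F ↥Mk = k := by
    rw [hMk, ← (Submodule.equivMapOfInjective (ρ x) (Function.LeftInverse.injective (rho_inv x)) _).finrank_eq,
      L.rank k le_rfl]
  set E := perp q Lk ⊓ perp q Mk with hE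
  have hE2 : 2 ≤ finrank F ↥E := by
    have h1 := Submodule.finrank_sup_add_finrank_inf_eq (perp q Lk) (perp q Mk)
    have h2 : finrank F ↥(perp q Lk ⊔ perp q Mk) ≤ 2 * (k + 1) := hdim ▸ Submodule.finrank_le _
    rw [finrank_perp q hF hnd hdim, finrank_perp q hF hnd hdim, hMd, hLk, L.rank k le_rfl, ← hLk, ← hE] at h1
    omega
  have hE4 : 4 ≤ Nat.card ↥E := by
    rw [card_submodule hF]
    exact Nat.pow_le_pow_right two_pos hE2
  -- an isometry fixing both flags pointwise
  obtain ⟨f, hf, hfix, v₀, hv₀⟩ : ∃ f : V ≃ₗ[F] V, (∀ v, q (f v) = q v) ∧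
      (∀ v, v ∈ Lk ∨ v ∈ Mk → f v = v) ∧ ∃ v₀, f v₀ ≠ v₀ := by
    have hperp : ∀ a ∈ E, ∀ v, v ∈ Lk ∨ v ∈ Mk → (QuadraticMap.polarBilin q) v a = 0 := fun a ha v hv =>
      hv.elim (fun h => ha.1 v h) (fun h => ha.2 v h)
    by_cases hsing : ∀ u ∈ E, q u = 0
    · obtain ⟨a, ha, b, hb, hab, hb0, ha0⟩ : ∃ a ∈ E, ∃ b ∈ E, a ≠ b ∧ b ≠ 0 ∧ a ≠ 0 := by
        have : Fintype ↥E := Fintype.ofFinite _
        have h3 : 2 ≤ (Finset.univ.erase (0 : ↥E)).card := by
          rw [Finset.card_erase_of_mem (Finset.mem_univ _), Finset.card_univ, ← Nat.card_eq_fintype_card]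
          omega
        obtain ⟨a, ha, b, hb, hab⟩ := Finset.one_lt_card.mp h3
        exact ⟨a, a.2, b, b.2, fun e => hab (Subtype.ext e),
          fun e => (Finset.ne_of_mem_erase hb) (Subtype.ext e), fun e => (Finset.ne_of_mem_erase ha) (Subtype.ext e)⟩
      have hqa := hsing a ha
      have hqb := hsing b hb
      have hBab : (QuadraticMap.polarBilin q) a b = 0 := (show Singular q E from hsing).b_zero q ha hb
      have hBaa : (QuadraticMap.polarBilin q) a a = 0 := (show Singular q E from hsing).b_zero q ha ha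
      have hBbb : (QuadraticMap.polarBilin q) b b = 0 := (show Singular q E from hsing).b_zero q hb hb
      let t : V →ₗ[F] V := LinearMap.id + (LinearMap.flip ((QuadraticMap.polarBilin q)) a).smulRight b + (LinearMap.flip ((QuadraticMap.polarBilin q)) b).smulRight a
      have ht : ∀ v, t v = v + (QuadraticMap.polarBilin q) v a • b + (QuadraticMap.polarBilin q) v b • a := fun v => rfl
      have hinv : Function.Involutive t := fun v => by
        simp only [ht, map_add, map_smul, LinearMap.add_apply, LinearMap.smul_apply, smul_eq_mul,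
          b_symm q b a, hBab, hBaa, hBbb, mul_zero, add_zero]
        rw [show v + (QuadraticMap.polarBilin q) v a • b + (QuadraticMap.polarBilin q) v b • a + (QuadraticMap.polarBilin q) v a • b + (QuadraticMap.polarBilin q) v b • a =
          v + ((QuadraticMap.polarBilin q) v a • b + (QuadraticMap.polarBilin q) v a • b) + ((QuadraticMap.polarBilin q) v b • a + (QuadraticMap.polarBilin q) v b • a) by abel, vec_add_self_zero hF,
          vec_add_self_zero hF, add_zero, add_zero]
      refine ⟨LinearEquiv.ofInvolutive t hinv, fun v => ?_, fun v hv => ?_, ?_⟩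
      · show q (t v) = q v
        rw [ht, q_add, q_add, QuadraticMap.map_smul, QuadraticMap.map_smul, hqa, hqb]
        simp only [map_add, map_smul, LinearMap.add_apply, LinearMap.smul_apply, smul_eq_mul, mul_zero,
          b_symm q b a, hBab, add_zero]
        rw [add_assoc, mul_comm ((QuadraticMap.polarBilin q) v b), add_self_zero hF, add_zero]
      · show t v = v
        rw [ht, hperp a ha v hv, hperp b hb v hv]
        simp
      · obtain ⟨v, hv⟩ : ∃ v, (QuadraticMap.polarBilin q) v a ≠ 0 := by
          by_contra hall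
          push Not at hall
          exact ha0 (hnd.2 a hall)
        refine ⟨v, fun e => ?_⟩
        change t v = v at e
        rw [ht, (two_zero hF _).resolve_left hv, one_smul, add_assoc, add_eq_left] at e
        rcases two_zero hF ((QuadraticMap.polarBilin q) v b) with e' | e' <;> rw [e'] at e
        · rw [zero_smul, add_zero] at e; exact hb0 e
        · rw [one_smul] at e
          refine hab ?_
          rw [← add_zero a, ← vec_add_self_zero hF b, ← add_assoc, add_comm a, e, zero_add]
    · push Not at hsing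
      obtain ⟨u, hu, hqu⟩ := hsing
      have hqu1 : q u = 1 := (two_zero hF _).resolve_left hqu
      have hBuu : (QuadraticMap.polarBilin q) u u = 0 := by
        have := q_add q u u
        rw [vec_add_self_zero hF, QuadraticMap.map_zero, add_self_zero hF, zero_add] at this
        exact this.symm
      let t : V →ₗ[F] V := LinearMap.id + (LinearMap.flip ((QuadraticMap.polarBilin q)) u).smulRight u
      have ht : ∀ v, t v = v + (QuadraticMap.polarBilin q) v u • u := fun v => rfl
      have hinv : Function.Involutive t := fun v => by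
        simp only [ht, map_add, map_smul, LinearMap.add_apply, LinearMap.smul_apply, smul_eq_mul, hBuu,
          mul_zero, add_zero]
        rw [add_assoc, vec_add_self_zero hF, add_zero]
      refine ⟨LinearEquiv.ofInvolutive t hinv, fun v => ?_, fun v hv => ?_, ?_⟩
      · show q (t v) = q v
        rw [ht, q_add, QuadraticMap.map_smul, hqu1, map_smul]
        simp only [smul_eq_mul, mul_one]
        rw [add_assoc, add_self_zero hF, add_zero]
      · show t v = v
        rw [ht, hperp u hu v hv, zero_smul, add_zero]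
      · obtain ⟨v, hv⟩ : ∃ v, (QuadraticMap.polarBilin q) v u ≠ 0 := by
          by_contra hall
          push Not at hall
          exact hqu (by rw [hnd.2 u hall, QuadraticMap.map_zero])
        refine ⟨v, fun e => hqu ?_⟩
        change t v = v at e
        rw [ht, (two_zero hF _).resolve_left hv, one_smul, add_eq_left] at e
        rw [e, QuadraticMap.map_zero]
  obtain ⟨g, hg⟩ := hfull f hf
  have hsub : ∀ i ≤ k, L.sub i ≤ Lk := by
    intro i hi
    induction hd : k - i generalizing i with
    | zero => rw [show i = k by omega]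
    | succ d ih => exact (L.mono i (by omega)).trans (ih (i + 1) (by omega) (by omega))
  have hgP : g ∈ (P : Subgroup G) := by
    rw [← hPL]
    refine fun i hi => le_antisymm ?_ fun v hv => ⟨v, hv, ?_⟩
    · rintro _ ⟨v, hv, rfl⟩
      rw [hg]
      exact (show f v = v from hfix v (Or.inl (hsub i hi hv))).symm ▸ hv
    · rw [hg]; exact hfix v (Or.inl (hsub i hi hv))
  have hgx : x⁻¹ * g * x ∈ (P : Subgroup G) := by
    rw [← hPL]
    have key : ∀ i ≤ k, ∀ v ∈ L.sub i, ρ (x⁻¹ * g * x) v = v := fun i hi v hv => by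
      rw [map_mul, map_mul, Module.End.mul_apply, Module.End.mul_apply, hg,
        show f.toLinearMap (ρ x v) = ρ x v from hfix _ (Or.inr ⟨v, hsub i hi hv, rfl⟩), rho_inv]
    refine fun i hi => le_antisymm ?_ fun v hv => ⟨v, hv, key i hi v hv⟩
    rintro _ ⟨v, hv, rfl⟩
    rw [key i hi v hv]
    exact hv
  intro hbot
  have h1 : g ∈ (P : Subgroup G) ⊓ (P : Subgroup G).map (MulAut.conj x).toMonoidHom :=
    ⟨hgP, x⁻¹ * g * x, hgx, by simp [mul_assoc]⟩
  rw [hbot, Subgroup.mem_bot] at h1
  refine hv₀ ?_
  rw [h1, map_one] at hg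
  exact (LinearMap.congr_fun hg v₀).symm

end CfsgLead.PlusTwo
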